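import Groth.Agent.Lib.SmDim19.RelDimVariety
import Groth.Agent.Lib.AmpleImm18.Main
import Groth.Agent.Lib.Twist.TensorInv
import Groth.Agent.Lib.Twist.ProjSpace
import Groth.Agent.Lib.FundIso12.SmoothProj
import Groth.Agent.S10934
import Groth.Prelude.Def_ClSub2

/-!
# Large negative powers of an ample module have no cohomology below the dimension
-/

set_option autoImplicit false
set_option linter.style.haveILetI false
set_option backward.isDefEq.respectTransparency false

universe u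

open CategoryTheory Limits AlgebraicGeometry TopologicalSpace

namespace Groth.Agent.FrobSplit12

open Groth.Agent

theorem nonempty_tensorPow_iso_structure {X : Scheme.{u}} {L M : X.Modules}
    (e : Nonempty (CohB1.tensorMod M L ≅ Coh.structureModule X)) (n : ℕ) :
    Nonempty (CohB1.tensorMod (CohB1.tensorPow M n) (CohB1.tensorPow L n) ≅ Coh.structureModule X) := by
  obtain ⟨e⟩ := e
  induction n with
  | zero => exact ⟨M2.tensorRUnit _⟩
  | succ n ih =>
    obtain ⟨e'⟩ := ih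
    exact ⟨M2.tensorInterchange _ _ _ _ ≪≫ M2.tensorIso e' e ≪≫ M2.tensorRUnit _⟩

theorem exists_vanish (k : Type u) [Field k] (X : Scheme.{u}) [X.Over (Spec (CommRingCat.of k))]
    [IsProper (X ↘ Spec (CommRingCat.of k))] [Smooth (X ↘ Spec (CommRingCat.of k))] [IrreducibleSpace X]
    (n : ℕ) (hn : topologicalKrullDim X = n) (L M : X.Modules) (hL : CohB1.IsAmple L)
    (hM : Nonempty (CohB1.tensorMod M L ≅ Coh.structureModule X)) :
    ∃ m₀ : ℕ, ∀ m : ℕ, m₀ ≤ m → ∀ i : ℕ, i < n → Subsingleton (Coh.HH X (CohB1.tensorPow M m) i) := by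
  obtain ⟨a₀, ha₀⟩ := AmpleImm18.exists_immersion_pow_of_isAmple (X ↘ Spec (CommRingCat.of k)) hL
  let a := a₀ + 1
  obtain ⟨N, j, hj, hjq, ⟨τ⟩⟩ := ha₀ a (Nat.le_succ _)
  haveI : IsProper (CohB1.ProjSpace.toSpec N k) := ProjSpace.isProper_toSpec N k
  haveI : IsProper j := by
    haveI : IsProper (j ≫ CohB1.ProjSpace.toSpec N k) := by rw [hjq]; infer_instance
    exact IsProper.of_comp j (CohB1.ProjSpace.toSpec N k)
  haveI : IsClosedImmersion j := IsClosedImmersion.of_isPreimmersion j j.isClosedMap.isClosed_range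
  haveI := SmDim19.smoothOfRelativeDimension_of_smooth (X ↘ Spec (CommRingCat.of k)) n hn
  have hCM : ∀ x : X, IsClosed ({x} : Set ↥X) →
      LocCoh.IsCohenMacaulayLocalRing (X.presheaf.stalk x) ∧ ringKrullDim (X.presheaf.stalk x) = n :=
    fun x hx => ⟨FundIso12.isCM_stalk_of_smooth k n x,
      SmDim19.ringKrullDim_stalk_closed (X ↘ Spec (CommRingCat.of k)) hn hx⟩
  have hvan := (S10934.result k N n j hn).1 hCM
  have hMinv : PicF.IsInvertible M := by
    obtain ⟨e⟩ := hM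
    exact M2.isInvertible_of_tensor_iso_unit M L e
  choose q₀ hq₀ using fun r : Fin a => hvan (CohB1.tensorPow M r)
    (M2.isFinLocFree_of_isInvertible (M2.isInvertible_tensorPow hMinv r))
  refine ⟨a * (∑ r, q₀ r + 1), fun m hm i hi => ?_⟩
  let q := m / a
  let r : Fin a := ⟨m % a, Nat.mod_lt _ (Nat.succ_pos _)⟩
  have hq : q₀ r ≤ q := by
    refine le_trans (le_trans (Finset.single_le_sum (fun _ _ => Nat.zero_le _) (Finset.mem_univ r)) (Nat.le_succ _)) ?_
    exact (Nat.le_div_iff_mul_le (Nat.succ_pos _)).2 (by rw [mul_comm]; exact hm)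
  have h := hq₀ r q hq i hi
  -- `j^* O(-q)` is the power `M^{aq}`
  obtain ⟨et⟩ := Twist.nonempty_iso_tensorPow (CohB1.polyGrading N k) (Twist.iSup_basicOpen_one N k) q
  let e1 : (Scheme.Modules.pullback j).obj (_root_.Twist.twistProjSpace N k (q : ℤ)) ≅ CohB1.tensorPow L (a * q) :=
    (Scheme.Modules.pullback j).mapIso et ≪≫ M2.pullTensorPowIso j _ q ≪≫ M2.tensorPowIso τ q ≪≫ M2.tensorPowPow L a q
  obtain ⟨e2⟩ := Twist.nonempty_tensor_iso (CohB1.polyGrading N k) (q : ℤ) (-(q : ℤ)) (Twist.iSup_basicOpen_one N k)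
  obtain ⟨e3⟩ := Twist.nonempty_twist_zero_iso (CohB1.polyGrading N k)
  let B := (Scheme.Modules.pullback j).obj (_root_.Twist.twistProjSpace N k (-(q : ℤ)))
  let e4 : CohB1.tensorMod (CohB1.tensorPow L (a * q)) B ≅ Coh.structureModule X :=
    M2.tensorIso e1.symm (Iso.refl _) ≪≫ (M2.pullTensorIso j _ _).symm ≪≫
      (Scheme.Modules.pullback j).mapIso (e2 ≪≫ eqToIso (congrArg _ (add_neg_cancel _)) ≪≫ e3) ≪≫ PicLoc.pullbackStructureIso j
  obtain ⟨e5⟩ := nonempty_tensorPow_iso_structure hM (a * q)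
  let e6 : B ≅ CohB1.tensorPow M (a * q) :=
    (M2.tensorLUnit B).symm ≪≫ M2.tensorIso e5.symm (Iso.refl _) ≪≫ M2.tensorAssoc _ _ _ ≪≫
      M2.tensorIso (Iso.refl _) e4 ≪≫ M2.tensorRUnit _
  let e7 : CohB1.tensorMod (CohB1.tensorPow M r) B ≅ CohB1.tensorPow M m :=
    M2.tensorIso (Iso.refl _) e6 ≪≫ (M2.tensorPowAdd M r (a * q)).symm ≪≫
      eqToIso (congrArg (CohB1.tensorPow M) (Nat.mod_add_div m a))
  exact (CurveCoh17.hequiv k e7 i).symm.toEquiv.subsingleton

end Groth.Agent.FrobSplit12
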