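import Groth.Agent.Lib.FrobSplit12.Semi
import Groth.Agent.Lib.CohFound.ProperFinite
import Groth.Agent.Lib.Snapper.Main
import Mathlib.FieldTheory.Perfect
import Mathlib.LinearAlgebra.FiniteDimensional.Defs

/-!
# Cohomology of invertible modules on Frobenius split schemes
-/

set_option autoImplicit false
set_option linter.style.haveILetI false
set_option backward.isDefEq.respectTransparency false
set_option backward.isDefEq.respectTransparency.types false

universe u

open CategoryTheory Limits AlgebraicGeometry Opposite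

namespace Groth.Agent.FrobSplit12

open Groth.Agent

/-- An injective semilinear map does not decrease the dimension. -/
theorem finrank_le_of_semilinear {K V W : Type*} [Field K] [AddCommGroup V] [Module K V] [AddCommGroup W]
    [Module K W] [Module.Finite K V] [Module.Finite K W]
    (σ : K →+* K) (hσ : Function.Surjective σ) (T : V →+ W)
    (hT : ∀ c v, T (c • v) = σ c • T v) (hinj : Function.Injective T) :
    Module.finrank K V ≤ Module.finrank K W := by
  classical
  let b := Module.finBasis K V
  have hli : LinearIndependent K fun i => T (b i) := by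
    rw [Fintype.linearIndependent_iff]
    intro g hg i
    choose d hd using fun i => hσ (g i)
    have h0 : T (∑ i, d i • b i) = 0 := by
      rw [map_sum, ← hg]
      exact Finset.sum_congr rfl fun i _ => by rw [hT, hd]
    have h1 := Fintype.linearIndependent_iff.1 b.linearIndependent d (hinj (h0.trans (map_zero T).symm)) i
    rw [← hd i, h1, map_zero]
  simpa using hli.fintype_card_le_finrank

variable (p : ℕ) [Fact p.Prime] (k : Type u) [Field k] [CharP k p]
  {X : Scheme.{u}} [X.Over (Spec (CommRingCat.of k))]

include k in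
theorem natCast_eq_zero : (p : Γ(X, ⊤)) = 0 := by
  have h : (p : k) = 0 := CharP.cast_eq_zero k p
  have := congrArg (Coh.toGlobal (X ↘ Spec (CommRingCat.of k))) h
  rwa [map_natCast, map_zero] at this

variable (φ s : Coh.toAb (Coh.structureModule X) ⟶ Coh.toAb (Coh.structureModule X))
  (hφ : ∀ (U : X.Opens) (t : Γ(X, U)), φ.hom.app (op U) t = t ^ p) (hs : φ ≫ s = 𝟙 _)
  (hlin : ∀ (U : X.Opens) (a b : Γ(X, U)),
      s.hom.app (op U) (a ^ p * b) = a * @id Γ(X, U) (s.hom.app (op U) b))
  {L : X.Modules} (hL : PicF.IsInvertible L) (i : ℕ)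

include hφ hs hlin hL k in
/-- The semilinear injection on cohomology. -/
theorem exists_semilinear :
    ∃ T : Coh.HH X L i →+ Coh.HH X (CohB1.tensorPow L p) i, Function.Injective T ∧
      ∀ (c : k) v, T (c • v) = (c ^ p) • T v := by
  have hs1 : ∀ (V : X.Opens) (a : Γ(X, V)), s.hom.app (op V) (a ^ p) = a := fun V a => by
    rw [← hφ V a]
    exact ConcreteCategory.congr_hom (congrArg (fun f : Coh.toAb (Coh.structureModule X) ⟶ _ => f.hom.app (op V)) hs) a
  obtain ⟨F, G, hFG, hFs⟩ := exists_split hL p (natCast_eq_zero p k (X := X)) s hs1 hlin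
  refine ⟨Sheaf.H.map F i, fun a b h => ?_, fun c v => ?_⟩
  · have := congrArg (Sheaf.H.map G i) h
    rwa [← Sheaf.H.map_comp_apply, ← Sheaf.H.map_comp_apply, hFG, Sheaf.H.map_id_apply, Sheaf.H.map_id_apply] at this
  · show Sheaf.H.map F i (Sheaf.H.map (Coh.smulAb _ (Coh.toGlobal (X ↘ Spec (CommRingCat.of k)) c)) i v) =
      Sheaf.H.map (Coh.smulAb _ (Coh.toGlobal (X ↘ Spec (CommRingCat.of k)) (c ^ p))) i (Sheaf.H.map F i v)
    rw [← Sheaf.H.map_comp_apply, ← Sheaf.H.map_comp_apply, map_pow]
    exact congrArg (fun f => Sheaf.H.map f i v) (hFs _)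

include hφ hs hlin hL in
theorem finrank_le [PerfectRing k p] [IsProper (X ↘ Spec (CommRingCat.of k))] :
    Module.finrank k (Coh.HH X L i) ≤ Module.finrank k (Coh.HH X (CohB1.tensorPow L p) i) := by
  haveI : IsLocallyNoetherian X := LocallyOfFiniteType.isLocallyNoetherian (X ↘ Spec (CommRingCat.of k))
  haveI : Module.Finite k (Coh.HH X L i) :=
    CohFound.finite_HH_of_isProper L (Snapper.isCoh_of_isInvertible hL) i
  haveI : Module.Finite k (Coh.HH X (CohB1.tensorPow L p) i) :=
    CohFound.finite_HH_of_isProper _ (Snapper.isCoh_of_isInvertible (M2.isInvertible_tensorPow hL p)) i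
  haveI : ExpChar k p := ExpChar.prime Fact.out
  obtain ⟨T, hinj, hT⟩ := exists_semilinear p k φ s hφ hs hlin hL i
  exact finrank_le_of_semilinear (frobenius k p) (surjective_frobenius k p) T hT hinj

include hφ hs hlin k hL in
theorem subsingleton_of_pow [Subsingleton (Coh.HH X (CohB1.tensorPow L p) i)] :
    Subsingleton (Coh.HH X L i) := by
  obtain ⟨T, hinj, -⟩ := exists_semilinear p k φ s hφ hs hlin hL i
  exact hinj.subsingleton

end Groth.Agent.FrobSplit12
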