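import Groth.Agent.Lib.Ample18.Sections
import Groth.Agent.Lib.RefHull26.Rank
import Groth.Prelude.Def_Coh

/-!
# Semilinear maps between invertible modules, glued from generators
-/

set_option autoImplicit false
set_option linter.style.haveILetI false
set_option backward.isDefEq.respectTransparency false

universe u

open CategoryTheory Limits AlgebraicGeometry Opposite TopologicalSpace

noncomputable section

namespace Groth.Agent.FrobSplit12

open Groth.Agent Groth.Agent.M1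
open Groth.Agent.M2 (IsGenerator res)

variable {X : Scheme.{u}}

/-- The data of a semilinear map in terms of generators. -/
structure Data (P Q : X.Modules) where
  ι : Type u
  U : ι → X.Opens
  cov : ⨆ i, U i = ⊤
  p : ∀ i, Γ(P, U i)
  q : ∀ i, Γ(Q, U i)
  gen : ∀ i, IsGenerator (p i)
  f : ∀ V : X.Opens, Γ(X, V) →+ Γ(X, V)
  f_res : ∀ {V W : X.Opens} (h : W ≤ V) (a : Γ(X, V)), f W (ores h a) = ores h (f V a)
  compat : ∀ (i j : ι) (W : X.Opens) (hi : W ≤ U i) (hj : W ≤ U j) (a b : Γ(X, W)),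
    a • mres P hi (p i) = b • mres P hj (p j) → f W a • mres Q hi (q i) = f W b • mres Q hj (q j)

variable {P Q : X.Modules} (D : Data P Q)

/-- `ρ` corresponds to `σ`. -/
def Data.Corr (V : X.Opens) (σ : Γ(P, V)) (ρ : Γ(Q, V)) : Prop :=
  ∀ (i : D.ι) (W : X.Opens) (hW : W ≤ V) (hi : W ≤ D.U i) (c : Γ(X, W)),
    mres P hW σ = c • mres P hi (D.p i) → mres Q hW ρ = D.f W c • mres Q hi (D.q i)

theorem Data.cov' (V : X.Opens) : V ≤ ⨆ i, V ⊓ D.U i := by
  rw [← inf_iSup_eq, D.cov, inf_top_eq]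

theorem Data.exists_coeff (i : D.ι) {W : X.Opens} (hi : W ≤ D.U i) (σ : Γ(P, W)) :
    ∃ c : Γ(X, W), σ = c • mres P hi (D.p i) := by
  obtain ⟨c, hc⟩ := (D.gen i W hi).2 σ
  exact ⟨c, hc.symm⟩

theorem Data.corr_unique {V : X.Opens} {σ : Γ(P, V)} {ρ ρ' : Γ(Q, V)} (h : D.Corr V σ ρ) (h' : D.Corr V σ ρ') :
    ρ = ρ' := by
  refine modules_eq_of_locally_eq Q V (fun i => V ⊓ D.U i) (fun i => inf_le_left) (D.cov' V) _ _ fun i => ?_
  obtain ⟨c, hc⟩ := D.exists_coeff i inf_le_right (mres P (inf_le_left : V ⊓ D.U i ≤ V) σ)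
  rw [h i _ inf_le_left inf_le_right c hc, h' i _ inf_le_left inf_le_right c hc]

theorem Data.exists_corr (V : X.Opens) (σ : Γ(P, V)) : ∃ ρ, D.Corr V σ ρ := by
  have h := fun i => D.exists_coeff i (inf_le_right : V ⊓ D.U i ≤ D.U i)
    (mres P (inf_le_left : V ⊓ D.U i ≤ V) σ)
  choose c hc using h
  obtain ⟨ρ, hρ, -⟩ := TopCat.Sheaf.existsUnique_gluing' ⟨_, Q.isSheaf⟩ (fun i => V ⊓ D.U i) V
    (fun i => homOfLE inf_le_left) (D.cov' V)
    (fun i => D.f _ (c i) • mres Q inf_le_right (D.q i)) fun i j => by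
      show mres Q (inf_le_left : (V ⊓ D.U i) ⊓ (V ⊓ D.U j) ≤ V ⊓ D.U i) (D.f _ (c i) • mres Q inf_le_right (D.q i)) =
        mres Q (inf_le_right : (V ⊓ D.U i) ⊓ (V ⊓ D.U j) ≤ V ⊓ D.U j) (D.f _ (c j) • mres Q inf_le_right (D.q j))
      rw [mres_smul, mres_smul, mres_mres, mres_mres, ← D.f_res, ← D.f_res]
      refine D.compat i j _ _ _ _ _ ?_
      have ei := congrArg (mres P (inf_le_left : (V ⊓ D.U i) ⊓ (V ⊓ D.U j) ≤ V ⊓ D.U i)) (hc i)
      have ej := congrArg (mres P (inf_le_right : (V ⊓ D.U i) ⊓ (V ⊓ D.U j) ≤ V ⊓ D.U j)) (hc j)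
      rw [mres_smul, mres_mres, mres_mres] at ei ej
      exact ei.symm.trans ej
  refine ⟨ρ, fun i W hW hi a ha => ?_⟩
  have hρ' : mres Q (inf_le_left : V ⊓ D.U i ≤ V) ρ = D.f _ (c i) • mres Q inf_le_right (D.q i) := hρ i
  have hW' : W ≤ V ⊓ D.U i := le_inf hW hi
  rw [← mres_mres Q (inf_le_left : V ⊓ D.U i ≤ V) hW', hρ', mres_smul, mres_mres, ← D.f_res]
  congr 2
  refine (D.gen i W hi).1 ?_
  show ores hW' (c i) • mres P hi (D.p i) = a • mres P hi (D.p i)
  rw [← ha, ← mres_mres P (inf_le_left : V ⊓ D.U i ≤ V) hW', hc i, mres_smul, mres_mres]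

/-- The glued map on sections. -/
def Data.fn (V : X.Opens) (σ : Γ(P, V)) : Γ(Q, V) := (D.exists_corr V σ).choose

theorem Data.corr_fn (V : X.Opens) (σ : Γ(P, V)) : D.Corr V σ (D.fn V σ) := (D.exists_corr V σ).choose_spec

theorem Data.fn_add (V : X.Opens) (σ σ' : Γ(P, V)) : D.fn V (σ + σ') = D.fn V σ + D.fn V σ' := by
  refine D.corr_unique (D.corr_fn V _) fun i W hW hi a ha => ?_
  obtain ⟨b, hb⟩ := D.exists_coeff i hi (mres P hW σ)
  obtain ⟨b', hb'⟩ := D.exists_coeff i hi (mres P hW σ')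
  have he : a = b + b' := (D.gen i W hi).1 (by
    show a • mres P hi (D.p i) = (b + b') • mres P hi (D.p i)
    rw [add_smul, ← ha, ← hb, ← hb', map_add])
  rw [map_add, D.corr_fn V σ i W hW hi b hb, D.corr_fn V σ' i W hW hi b' hb', he, map_add, add_smul]

theorem Data.fn_mres {V V' : X.Opens} (h : V' ≤ V) (σ : Γ(P, V)) :
    D.fn V' (mres P h σ) = mres Q h (D.fn V σ) := by
  refine D.corr_unique (D.corr_fn V' _) fun i W hW hi a ha => ?_
  rw [mres_mres] at ha ⊢
  exact D.corr_fn V σ i W _ hi a ha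

/-- The semilinear map as a morphism of abelian sheaves. -/
def Data.hom : Coh.toAb P ⟶ Coh.toAb Q :=
  ⟨{ app := fun V => AddCommGrpCat.ofHom (AddMonoidHom.mk' (D.fn V.unop) (D.fn_add V.unop))
     naturality := fun V V' i => by
       ext σ
       exact D.fn_mres (leOfHom i.unop) σ }⟩

theorem Data.hom_app (V : X.Opens) (σ : Γ(P, V)) : D.hom.hom.app (op V) σ = D.fn V σ := rfl

theorem Data.fn_smul {V : X.Opens} (r r' : Γ(X, V))
    (hr : ∀ (W : X.Opens) (h : W ≤ V) (a : Γ(X, W)), D.f W (ores h r * a) = ores h r' * D.f W a) (σ : Γ(P, V)) :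
    D.fn V (r • σ) = r' • D.fn V σ := by
  refine D.corr_unique (D.corr_fn V _) fun i W hW hi a ha => ?_
  obtain ⟨b, hb⟩ := D.exists_coeff i hi (mres P hW σ)
  have he : a = ores hW r * b := (D.gen i W hi).1 (by
    show a • mres P hi (D.p i) = (ores hW r * b) • mres P hi (D.p i)
    rw [mul_smul, ← ha, ← hb, mres_smul])
  rw [mres_smul, D.corr_fn V σ i W hW hi b hb, he, hr W hW b, mul_smul]

/-- Two such maps compose to the identity when the coefficient maps do. -/
theorem Data.hom_comp_eq_id (E : Data Q P) (e : D.ι → E.ι) (hU : ∀ i, D.U i ≤ E.U (e i))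
    (hq : ∀ i, mres Q (hU i) (E.p (e i)) = D.q i) (hp : ∀ i, mres P (hU i) (E.q (e i)) = D.p i)
    (hf : ∀ (V : X.Opens) (a : Γ(X, V)), E.f V (D.f V a) = a) : D.hom ≫ E.hom = 𝟙 _ := by
  apply CategoryTheory.Sheaf.hom_ext
  refine NatTrans.ext (funext fun V => ?_)
  ext σ
  show E.fn V.unop (D.fn V.unop σ) = σ
  refine modules_eq_of_locally_eq P V.unop (fun i => V.unop ⊓ D.U i) (fun i => inf_le_left) (D.cov' V.unop) _ _
    fun i => ?_
  obtain ⟨c, hc⟩ := D.exists_coeff i inf_le_right (mres P (inf_le_left : V.unop ⊓ D.U i ≤ V.unop) σ)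
  have h1 := D.corr_fn V.unop σ i _ inf_le_left inf_le_right c hc
  rw [← hq i, mres_mres] at h1
  have h2 := E.corr_fn V.unop (D.fn V.unop σ) (e i) _ inf_le_left (inf_le_right.trans (hU i)) _ h1
  rw [h2, hc, hf, ← hp i, mres_mres]

/-! ### The Frobenius and its splitting on an invertible module -/

variable {L : X.Modules} (hL : PicF.IsInvertible L) (p : ℕ) [Fact p.Prime] (hp : (p : Γ(X, ⊤)) = 0)

include hL in
theorem exists_cover : ∃ (U : X → X.Opens) (e : ∀ x, Γ(L, U x)),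
    (⨆ x, U x) = ⊤ ∧ (∀ x, IsGenerator (e x)) ∧ ∀ x, IsGenerator (Amp.pw (e x) p) := by
  choose U e hxU _ _ he using fun x : X => Amp.exists_isGenerator hL (x := x) (V := ⊤) trivial
  refine ⟨U, e, eq_top_iff.2 fun x _ => Opens.mem_iSup.2 ⟨x, hxU x⟩, he, fun x => ?_⟩
  exact RH26.isGenerator_of_gen fun y hy => Amp.gen_pw hL hy _ p (Amp.gen_of_isGenerator (he x) hy)

include hp in
theorem powHom_add (V : X.Opens) (a b : Γ(X, V)) : (a + b) ^ p = a ^ p + b ^ p := by
  have h : (p : Γ(X, V)) = 0 := by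
    rw [← map_natCast (X.presheaf.map (homOfLE (le_top : V ≤ ⊤)).op).hom p, hp, map_zero]
  obtain ⟨r, hr⟩ := exists_add_pow_prime_eq (Fact.out : p.Prime) a b
  rw [hr, h, zero_mul, zero_mul, zero_mul, add_zero]

include hL hp in
/-- A semilinear splitting of `L → L^p`. -/
theorem exists_split (s : Coh.toAb (Coh.structureModule X) ⟶ Coh.toAb (Coh.structureModule X))
    (hs1 : ∀ (V : X.Opens) (a : Γ(X, V)), s.hom.app (op V) (a ^ p) = a)
    (hlin : ∀ (U : X.Opens) (a b : Γ(X, U)),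
      s.hom.app (op U) (a ^ p * b) = a * @id Γ(X, U) (s.hom.app (op U) b)) :
    ∃ (F : Coh.toAb L ⟶ Coh.toAb (CohB1.tensorPow L p)) (G : Coh.toAb (CohB1.tensorPow L p) ⟶ Coh.toAb L),
      F ≫ G = 𝟙 _ ∧ ∀ c : Γ(X, ⊤),
        Coh.smulAb L c ≫ F = F ≫ Coh.smulAb (CohB1.tensorPow L p) (c ^ p) := by
  obtain ⟨U, e, hcov, he, hpw⟩ := exists_cover hL p (L := L)
  let D : Data L (CohB1.tensorPow L p) :=
    { ι := X, U := U, cov := hcov, p := e, q := fun x => Amp.pw (e x) p, gen := he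
      f := fun V => AddMonoidHom.mk' (fun a => a ^ p) (powHom_add p hp V)
      f_res := fun {V W} h a => (map_pow (ores h).hom a p).symm
      compat := fun i j W hi hj a b hab => by
        obtain ⟨t, ht⟩ := (he i W hi).2 (mres L hj (e j))
        have hat : a = b * t := (he i W hi).1 (by
          show a • mres L hi (e i) = (b * t) • mres L hi (e i)
          rw [mul_smul, hab]
          exact congrArg (b • ·) ht.symm)
        show a ^ p • mres _ hi (Amp.pw (e i) p) = b ^ p • mres _ hj (Amp.pw (e j) p)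
        rw [show mres _ hj (Amp.pw (e j) p) = Amp.pw (mres L hj (e j)) p from Amp.res_pw hj _ p,
          show mres _ hi (Amp.pw (e i) p) = Amp.pw (mres L hi (e i)) p from Amp.res_pw hi _ p,
          ← show t • mres L hi (e i) = mres L hj (e j) from ht, Amp.pw_smul, hat, mul_pow, mul_smul] }
  let E : Data (CohB1.tensorPow L p) L :=
    { ι := X, U := U, cov := hcov, p := fun x => Amp.pw (e x) p, q := e, gen := hpw
      f := fun V => (s.hom.app (op V)).hom
      f_res := fun {V W} h a => ConcreteCategory.congr_hom (s.hom.naturality (homOfLE h).op) a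
      compat := fun i j W hi hj a b hab => by
        obtain ⟨t, ht⟩ := (he i W hi).2 (mres L hj (e j))
        rw [show mres _ hj (Amp.pw (e j) p) = Amp.pw (mres L hj (e j)) p from Amp.res_pw hj _ p,
          ← show t • mres L hi (e i) = mres L hj (e j) from ht, Amp.pw_smul,
          show mres _ hi (Amp.pw (e i) p) = Amp.pw (mres L hi (e i)) p from Amp.res_pw hi _ p] at hab
        have hat : a = t ^ p * b := (hpw i W hi).1 (by
          show a • mres _ hi (Amp.pw (e i) p) = (t ^ p * b) • mres _ hi (Amp.pw (e i) p)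
          rw [show mres _ hi (Amp.pw (e i) p) = Amp.pw (mres L hi (e i)) p from Amp.res_pw hi _ p, hab, ← mul_smul,
            mul_comm])
        show @id Γ(X, W) (s.hom.app (op W) a) • _ = @id Γ(X, W) (s.hom.app (op W) b) • _
        rw [show mres L hj (e j) = t • mres L hi (e i) from ht.symm, hat, ← mul_smul]
        refine congrArg (· • mres L hi (e i)) ((hlin W t b).trans ?_)
        exact mul_comm (G := Γ(X, W)) _ _ }
  refine ⟨D.hom, E.hom, D.hom_comp_eq_id E id (fun i => le_rfl) (fun i => mres_id _ _ _) (fun i => mres_id _ _ _)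
    (fun V a => hs1 V a), fun c => ?_⟩
  apply CategoryTheory.Sheaf.hom_ext
  refine NatTrans.ext (funext fun V => ConcreteCategory.hom_ext _ _ fun (σ : Γ(L, V.unop)) => ?_)
  show D.fn V.unop (ores (le_top : V.unop ≤ ⊤) c • σ) = ores (le_top : V.unop ≤ ⊤) (c ^ p) • D.fn V.unop σ
  refine D.fn_smul _ _ (fun W h a => ?_) σ
  show (_ * a) ^ p = _ * a ^ p
  rw [mul_pow, map_pow, map_pow]

end Groth.Agent.FrobSplit12
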